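import Cfsg.Agent.H894.ThThree.Def

/-!
# Commutators of the representatives (helper894)
-/

set_option autoImplicit false
set_option maxRecDepth 100000
set_option maxHeartbeats 4000000
set_option Elab.async false

namespace Cfsg.Agent.H894.ThThree

open Cfsg.Agent.Th Cfsg.Agent.Th.Words248 Cfsg.Agent.Th.Gen248 Cfsg.Agent.H777.Th3 Cfsg.Agent.H894.ThLine

theorem ckD_0_0 : dck 0 0 = true := by decide +kernel

theorem ckD_0_1 : dck 0 1 = true := by decide +kernel

theorem ckD_0_2 : dck 0 2 = true := by decide +kernel

theorem ckD_0_3 : dck 0 3 = true := by decide +kernel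

theorem ckD_0_4 : dck 0 4 = true := by decide +kernel

theorem ckD_1_2 : dck 1 2 = true := by decide +kernel

theorem ckD_1_3 : dck 1 3 = true := by decide +kernel

theorem ckD_1_4 : dck 1 4 = true := by decide +kernel

theorem ckD_2_0 : dck 2 0 = true := by decide +kernel

theorem ckD_2_1 : dck 2 1 = true := by decide +kernel

theorem ckD_2_3 : dck 2 3 = true := by decide +kernel

theorem ckD_2_4 : dck 2 4 = true := by decide +kernel

theorem ckD_3_2 : dck 3 2 = true := by decide +kernel

theorem ckD_3_3 : dck 3 3 = true := by decide +kernel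

theorem ckD_3_4 : dck 3 4 = true := by decide +kernel

theorem ckD_4_2 : dck 4 2 = true := by decide +kernel

theorem ckD_4_3 : dck 4 3 = true := by decide +kernel

theorem ckD_4_4 : dck 4 4 = true := by decide +kernel

theorem ckD_5_0 : dck 5 0 = true := by decide +kernel

theorem ckD_5_1 : dck 5 1 = true := by decide +kernel

theorem ckD_5_2 : dck 5 2 = true := by decide +kernel

theorem ckD_5_3 : dck 5 3 = true := by decide +kernel

theorem ckD_6_0 : dck 6 0 = true := by decide +kernel

theorem ckD_6_1 : dck 6 1 = true := by decide +kernel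

theorem ckD_6_2 : dck 6 2 = true := by decide +kernel

theorem ckD_6_3 : dck 6 3 = true := by decide +kernel

theorem ckD_7_0 : dck 7 0 = true := by decide +kernel

theorem ckD_7_1 : dck 7 1 = true := by decide +kernel

theorem ckD_7_2 : dck 7 2 = true := by decide +kernel

theorem ckD_7_3 : dck 7 3 = true := by decide +kernel

theorem ckD_8_0 : dck 8 0 = true := by decide +kernel

theorem ckD_8_1 : dck 8 1 = true := by decide +kernel

theorem ckD_8_2 : dck 8 2 = true := by decide +kernel

theorem ckD_8_3 : dck 8 3 = true := by decide +kernel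

theorem ckD_9_0 : dck 9 0 = true := by decide +kernel

theorem ckD_9_1 : dck 9 1 = true := by decide +kernel

theorem ckD_9_2 : dck 9 2 = true := by decide +kernel

theorem ckD_9_3 : dck 9 3 = true := by decide +kernel

theorem ckD : ∀ r j, dok r j = true → dck r j = true := by
  intro r j h
  unfold dok at h
  split at h
  · exact ckD_0_0
  · exact ckD_0_1
  · exact ckD_0_2
  · exact ckD_0_3
  · exact ckD_0_4
  · exact ckD_1_2
  · exact ckD_1_3
  · exact ckD_1_4
  · exact ckD_2_0
  · exact ckD_2_1
  · exact ckD_2_3
  · exact ckD_2_4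
  · exact ckD_3_2
  · exact ckD_3_3
  · exact ckD_3_4
  · exact ckD_4_2
  · exact ckD_4_3
  · exact ckD_4_4
  · exact ckD_5_0
  · exact ckD_5_1
  · exact ckD_5_2
  · exact ckD_5_3
  · exact ckD_6_0
  · exact ckD_6_1
  · exact ckD_6_2
  · exact ckD_6_3
  · exact ckD_7_0
  · exact ckD_7_1
  · exact ckD_7_2
  · exact ckD_7_3
  · exact ckD_8_0
  · exact ckD_8_1
  · exact ckD_8_2
  · exact ckD_8_3
  · exact ckD_9_0
  · exact ckD_9_1
  · exact ckD_9_2
  · exact ckD_9_3
  · exact absurd h (by simp)

end Cfsg.Agent.H894.ThThree
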