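import Cfsg.Agent.H894.ThThree.Def

/-!
# The cubes of the representatives (helper894)
-/

set_option autoImplicit false
set_option maxRecDepth 100000
set_option maxHeartbeats 4000000
set_option Elab.async false

namespace Cfsg.Agent.H894.ThThree

open Cfsg.Agent.Th Cfsg.Agent.Th.Words248 Cfsg.Agent.Th.Gen248 Cfsg.Agent.H777.Th3 Cfsg.Agent.H894.ThLine

theorem ckK_0 : kck 0 = true := by decide +kernel

theorem ckK_1 : kck 1 = true := by decide +kernel

theorem ckK_2 : kck 2 = true := by decide +kernel

theorem ckK_3 : kck 3 = true := by decide +kernel

theorem ckK_4 : kck 4 = true := by decide +kernel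

theorem ckK_5 : kck 5 = true := by decide +kernel

theorem ckK_6 : kck 6 = true := by decide +kernel

theorem ckK_7 : kck 7 = true := by decide +kernel

theorem ckK_8 : kck 8 = true := by decide +kernel

theorem ckK_9 : kck 9 = true := by decide +kernel

theorem ckK_10 : kck 10 = true := by decide +kernel

theorem ckK_11 : kck 11 = true := by decide +kernel

theorem ckK_12 : kck 12 = true := by decide +kernel

theorem ckK_13 : kck 13 = true := by decide +kernel

theorem ckK_14 : kck 14 = true := by decide +kernel

theorem ckK_15 : kck 15 = true := by decide +kernel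

theorem ckK_16 : kck 16 = true := by decide +kernel

theorem ckK_17 : kck 17 = true := by decide +kernel

theorem ckK_18 : kck 18 = true := by decide +kernel

theorem ckK_19 : kck 19 = true := by decide +kernel

theorem ckK : ∀ r, 0 ≤ r → r < 20 → kck r = true := by
  intro r h1 h2
  interval_cases r
  · exact ckK_0
  · exact ckK_1
  · exact ckK_2
  · exact ckK_3
  · exact ckK_4
  · exact ckK_5
  · exact ckK_6
  · exact ckK_7
  · exact ckK_8
  · exact ckK_9
  · exact ckK_10
  · exact ckK_11
  · exact ckK_12
  · exact ckK_13
  · exact ckK_14
  · exact ckK_15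
  · exact ckK_16
  · exact ckK_17
  · exact ckK_18
  · exact ckK_19


end Cfsg.Agent.H894.ThThree
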