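import Cfsg.Agent.H894.ThThree.Def

/-!
# Involutions commuting with the roots (helper894)
-/

set_option autoImplicit false
set_option maxRecDepth 100000
set_option maxHeartbeats 4000000
set_option Elab.async false

namespace Cfsg.Agent.H894.ThThree

open Cfsg.Agent.Th Cfsg.Agent.Th.Words248 Cfsg.Agent.Th.Gen248 Cfsg.Agent.H777.Th3 Cfsg.Agent.H894.ThLine

theorem ckR_0 : ick (0, 0, 0, 0, 1) (0, 0, 0, 0, 0) [] [.d] [] = true := by decide +kernel

theorem ckR_1 : ick (0, 0, 0, 1, 0) (0, 0, 0, 0, 0) [] [.a] [] = true := by decide +kernel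

theorem ckR_2 : ick (0, 0, 0, 1, 1) (0, 0, 0, 0, 0) [] [.d] [] = true := by decide +kernel

theorem ckR_3 : ick (0, 0, 1, 0, 2) (0, 0, 0, 0, 0) [] [.d] [] = true := by decide +kernel

theorem ckR_4 : ick (0, 0, 1, 2, 1) (0, 0, 0, 0, 0) [] [.d] [] = true := by decide +kernel

theorem ckR_5 : ick (0, 1, 0, 0, 0) (0, 0, 0, 0, 0) [10] [.u, .d, .U] [23] = true := by decide +kernel

theorem ckR_6 : ick (1, 0, 0, 0, 0) (0, 0, 0, 0, 0) [] [.a] [] = true := by decide +kernel

theorem ckR_7 : ick (0, 0, 0, 0, 0) (0, 0, 1, 0, 0) [] [.b, .U, .b, .u, .b] [] = true := by decide +kernel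

theorem ckR_8 : ick (0, 0, 0, 0, 1) (0, 0, 1, 0, 0) [19] [.a, .U, .b, .u, .a] [6] = true := by decide +kernel

theorem ckR_9 : ick (0, 0, 0, 1, 1) (0, 0, 1, 0, 0) [10, 18] [.u, .d, .U] [5, 23] = true := by decide +kernel

theorem ckR_10 : ick (0, 0, 0, 0, 0) (0, 1, 0, 0, 0) [4, 3, 25] [.u, .d, .U] [12, 16, 17] = true := by decide +kernel

theorem ckR_11 : ick (0, 0, 0, 0, 1) (0, 1, 0, 0, 0) [22, 18] [.b] [5, 9] = true := by decide +kernel

theorem ckR_12 : ick (0, 0, 0, 0, 2) (0, 1, 0, 0, 0) [8, 7, 12] [.u, .d, .U] [25, 20, 21] = true := by decide +kernel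

theorem ckR_13 : ick (0, 0, 0, 0, 0) (0, 1, 0, 2, 0) [22] [.a] [9] = true := by decide +kernel

theorem ckR_14 : ick (0, 0, 0, 0, 1) (0, 1, 0, 2, 0) [22, 24] [.U, .d, .u] [11, 9] = true := by decide +kernel

theorem ckR_15 : ick (0, 0, 0, 1, 0) (0, 1, 0, 2, 0) [18, 22] [.b] [9, 5] = true := by decide +kernel

theorem ckR_16 : ick (0, 0, 0, 0, 0) (0, 1, 1, 1, 0) [5, 22, 25] [.a] [12, 9, 18] = true := by decide +kernel

theorem ckR_17 : ick (0, 0, 0, 0, 1) (0, 1, 1, 1, 0) [22, 4, 25, 7] [.d] [20, 12, 17, 9] = true := by decide +kernel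

theorem ckR_18 : ick (0, 0, 0, 0, 2) (0, 1, 1, 1, 0) [18, 22, 25, 20] [.d] [7, 12, 9, 5] = true := by decide +kernel

theorem ckR_19 : ick (0, 0, 0, 0, 0) (0, 1, 2, 1, 0) [21, 9, 25, 8] [.d] [21, 12, 22, 8] = true := by decide +kernel

theorem ckR_20 : ick (0, 0, 0, 0, 1) (0, 1, 2, 1, 0) [24, 9, 12, 7] [.d] [20, 25, 22, 11] = true := by decide +kernel

theorem ckR_21 : ick (0, 0, 0, 0, 2) (0, 1, 2, 1, 0) [24, 16, 9, 12] [.a] [25, 22, 3, 11] = true := by decide +kernel

theorem ckR_22 : ick (0, 0, 0, 0, 0) (1, 1, 0, 0, 0) [16, 25, 22] [.d] [9, 12, 3] = true := by decide +kernel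

theorem ckR_23 : ick (0, 0, 0, 0, 1) (1, 1, 0, 0, 0) [22, 24] [.a] [11, 9] = true := by decide +kernel

theorem ckR_24 : ick (0, 0, 0, 0, 2) (1, 1, 0, 0, 0) [11, 7, 12, 8] [.d] [21, 25, 20, 24] = true := by decide +kernel

theorem ckR_25 : ick (0, 0, 0, 0, 0) (0, 0, 0, 0, 1) [21] [.u, .d, .U] [8] = true := by decide +kernel

theorem ckR_26 : ick (0, 0, 0, 0, 1) (0, 0, 1, 0, 1) [10, 11, 18, 9, 25] [.u, .d, .U] [12, 22, 5, 24, 23] = true := by decide +kernel

theorem ckR_27 : ick (0, 0, 0, 0, 2) (0, 0, 2, 0, 1) [10, 24, 9, 8, 12] [.d, .u, .d, .U, .d] [25, 21, 22, 11, 23] = true := by decide +kernel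

theorem ckR_28 : ick (0, 0, 0, 0, 0) (0, 0, 0, 0, 0) [] [.a] [] = true := by decide +kernel

/-- all roots -/
theorem ckR : ∀ r < 10, ∀ e ∈ rts r, ∃ h J h', (∀ q ∈ h, q < 26) ∧ (∀ q ∈ h', q < 26) ∧ ick e (rp r) h J h' = true := by
  intro r hr
  interval_cases r
  · intro e he
    simp only [rts, List.mem_cons, List.not_mem_nil, or_false] at he
    rcases he with rfl | rfl | rfl | rfl | rfl | rfl | rfl | rfl
    · exact ⟨_, _, _, by decide, by decide, ckR_0⟩
    · exact ⟨_, _, _, by decide, by decide, ckR_1⟩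
    · exact ⟨_, _, _, by decide, by decide, ckR_2⟩
    · exact ⟨_, _, _, by decide, by decide, ckR_3⟩
    · exact ⟨_, _, _, by decide, by decide, ckR_4⟩
    · exact ⟨_, _, _, by decide, by decide, ckR_5⟩
    · exact ⟨_, _, _, by decide, by decide, ckR_6⟩
    · exact ⟨_, _, _, by decide, by decide, ckR_28⟩
  · intro e he
    simp only [rts, List.mem_cons, List.not_mem_nil, or_false] at he
    rcases he with rfl
    · exact ⟨_, _, _, by decide, by decide, ckR_25⟩
  · intro e he
    simp only [rts, List.mem_cons, List.not_mem_nil, or_false] at he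
    rcases he with rfl | rfl | rfl
    · exact ⟨_, _, _, by decide, by decide, ckR_7⟩
    · exact ⟨_, _, _, by decide, by decide, ckR_8⟩
    · exact ⟨_, _, _, by decide, by decide, ckR_9⟩
  · intro e he
    simp only [rts, List.mem_cons, List.not_mem_nil, or_false] at he
    rcases he with rfl
    · exact ⟨_, _, _, by decide, by decide, ckR_26⟩
  · intro e he
    simp only [rts, List.mem_cons, List.not_mem_nil, or_false] at he
    rcases he with rfl
    · exact ⟨_, _, _, by decide, by decide, ckR_27⟩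
  · intro e he
    simp only [rts, List.mem_cons, List.not_mem_nil, or_false] at he
    rcases he with rfl | rfl | rfl
    · exact ⟨_, _, _, by decide, by decide, ckR_10⟩
    · exact ⟨_, _, _, by decide, by decide, ckR_11⟩
    · exact ⟨_, _, _, by decide, by decide, ckR_12⟩
  · intro e he
    simp only [rts, List.mem_cons, List.not_mem_nil, or_false] at he
    rcases he with rfl | rfl | rfl
    · exact ⟨_, _, _, by decide, by decide, ckR_13⟩
    · exact ⟨_, _, _, by decide, by decide, ckR_14⟩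
    · exact ⟨_, _, _, by decide, by decide, ckR_15⟩
  · intro e he
    simp only [rts, List.mem_cons, List.not_mem_nil, or_false] at he
    rcases he with rfl | rfl | rfl
    · exact ⟨_, _, _, by decide, by decide, ckR_16⟩
    · exact ⟨_, _, _, by decide, by decide, ckR_17⟩
    · exact ⟨_, _, _, by decide, by decide, ckR_18⟩
  · intro e he
    simp only [rts, List.mem_cons, List.not_mem_nil, or_false] at he
    rcases he with rfl | rfl | rfl
    · exact ⟨_, _, _, by decide, by decide, ckR_19⟩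
    · exact ⟨_, _, _, by decide, by decide, ckR_20⟩
    · exact ⟨_, _, _, by decide, by decide, ckR_21⟩
  · intro e he
    simp only [rts, List.mem_cons, List.not_mem_nil, or_false] at he
    rcases he with rfl | rfl | rfl
    · exact ⟨_, _, _, by decide, by decide, ckR_22⟩
    · exact ⟨_, _, _, by decide, by decide, ckR_23⟩
    · exact ⟨_, _, _, by decide, by decide, ckR_24⟩

end Cfsg.Agent.H894.ThThree
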