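import Cfsg.Agent.H894.ThThree.Tab

/-!
# Elements of order 3 in a Sylow 3-subgroup of the Thompson group: the orbits (helper894)
-/

set_option autoImplicit false
set_option maxRecDepth 100000
set_option maxHeartbeats 4000000

namespace Cfsg.Agent.H894.ThThree

open Cfsg.Agent.H777.Th3 Cfsg.Agent.H777.Th3.Dat

/-- `x` commutes with an involution -/
def Good {G : Type*} [Group G] (x : G) : Prop := ∃ i : G, i ≠ 1 ∧ i * i = 1 ∧ x * i = i * x

theorem Good.of_conj {G : Type*} [Group G] {x s : G} (h : Good (s⁻¹ * x * s)) : Good x := by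
  obtain ⟨i, h1, h2, h3⟩ := h
  refine ⟨s * i * s⁻¹, ?_, ?_, ?_⟩
  · intro h
    apply h1
    have : s * i * s⁻¹ * s = s := by rw [h, one_mul]
    rw [inv_mul_cancel_right] at this
    exact mul_eq_left.1 this
  · calc s * i * s⁻¹ * (s * i * s⁻¹) = s * (i * i) * s⁻¹ := by group
      _ = 1 := by rw [h2]; group
  · calc x * (s * i * s⁻¹) = s * (s⁻¹ * x * s * i) * s⁻¹ := by group
      _ = s * (i * (s⁻¹ * x * s)) * s⁻¹ := by rw [h3]
      _ = s * i * s⁻¹ * x := by group

theorem Good.of_inv {G : Type*} [Group G] {x : G} (h : Good x⁻¹) : Good x := by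
  obtain ⟨i, h1, h2, h3⟩ := h
  refine ⟨i, h1, h2, ?_⟩
  calc x * i = x * (i * x⁻¹) * x := by group
    _ = x * (x⁻¹ * i) * x := by rw [h3]
    _ = i * x := by group

theorem Good.of_sq {G : Type*} [Group G] {x : G} (h3 : x ^ 3 = 1) (h : Good (x ^ 2)) : Good x := by
  apply Good.of_inv
  rwa [show x⁻¹ = x ^ 2 by
    rw [inv_eq_iff_mul_eq_one, ← h3]
    group]

/-- code of a vector -/
def cd (e : V5) : ℕ := e.1.val * 81 + e.2.1.val * 27 + e.2.2.1.val * 9 + e.2.2.2.1.val * 3 + e.2.2.2.2.val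

/-- digit of a table -/
def dg (T n : ℕ) : ℕ := Nat.mod (Nat.div T (Nat.pow 256 n)) 256

/-- digit as an element of `ZMod 3` -/
def dz (n : ℕ) : ZMod 3 :=
  match Nat.mod n 3 with
  | 0 => 0
  | 1 => 1
  | _ => 2

/-- the action with given coordinates -/
def Aw (q : V5) (e : V5) : V5 := Aq q.1 q.2.1 q.2.2.1 q.2.2.2.1 q.2.2.2.2 e

/-- action of a representative -/
def R (r : ℕ) (e : V5) : V5 := Aw (rp r) e

/-- basis -/
def bs : ℕ → V5
  | 0 => (1, 0, 0, 0, 0)
  | 1 => (0, 1, 0, 0, 0)
  | 2 => (0, 0, 1, 0, 0)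
  | 3 => (0, 0, 0, 1, 0)
  | _ => (0, 0, 0, 0, 1)

/-- action of the generators -/
def sA : ℕ → V5 → V5
  | 0 => T 1 0 0 0
  | 1 => T 0 1 0 0
  | 2 => T 0 0 1 0
  | 3 => T 0 0 0 1
  | _ => X

/-- the moves -/
def mv (r i : ℕ) (e : V5) : V5 :=
  if i < 5 then e + bs i - R r (R r (bs i))
  else if i < 10 then sA (i - 5) e + dl r (i - 5)
  else -e

/-- the moves which are allowed -/
def mok (r i : ℕ) : Bool := if i < 5 then true else if i < 10 then dok r (i - 5) else decide (r = 0)

/-- cube -/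
def okr (r : ℕ) (e : V5) : Bool := decide (e + R r e + R r (R r e) + kp r = 0)

/-- the check -/
def stp (r : ℕ) (e : V5) : Bool :=
  !(okr r e) ||
    (decide (dg (tb r) (cd e) / 16 = 0) && decide (e ∈ rts r)) ||
    (okr r (mv r (dg (tb r) (cd e) % 16) e) && mok r (dg (tb r) (cd e) % 16) &&
      decide (dg (tb r) (cd (mv r (dg (tb r) (cd e) % 16) e)) / 16 < dg (tb r) (cd e) / 16))

/-- coordinates from a code -/
def dv (n : ℕ) : V5 := (dz (n / 81), dz (n / 27), dz (n / 9), dz (n / 3), dz n)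

/-- cube on the basis -/
def c3 (q : V5) : Bool := [0, 1, 2, 3, 4].all fun i => decide (Aw q (Aw q (Aw q (bs i))) = bs i)

/-- first or second iterate -/
def it (k : ℕ) (f : V5 → V5) (e : V5) : V5 := if k = 0 then f e else f (f e)

/-- conjugacy on the basis -/
def cjk (q s : V5) (r k : ℕ) : Bool :=
  [0, 1, 2, 3, 4].all fun i => decide (Aw s (it k (Aw q) (bs i)) = R r (Aw s (bs i)))

/-- the check of the classes -/
def stA (q : V5) : Bool :=
  !(c3 q) || (decide (dg tR (cd q) / 2 < 20) && cjk q (dv (dg tS (cd q))) (dg tR (cd q) / 2) (dg tR (cd q) % 2))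

theorem stp_0 : ∀ e : V5, stp 0 e = true := by decide +kernel
theorem stp_1 : ∀ e : V5, stp 1 e = true := by decide +kernel
theorem stp_2 : ∀ e : V5, stp 2 e = true := by decide +kernel
theorem stp_3 : ∀ e : V5, stp 3 e = true := by decide +kernel
theorem stp_4 : ∀ e : V5, stp 4 e = true := by decide +kernel
theorem stp_5 : ∀ e : V5, stp 5 e = true := by decide +kernel
theorem stp_6 : ∀ e : V5, stp 6 e = true := by decide +kernel
theorem stp_7 : ∀ e : V5, stp 7 e = true := by decide +kernel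
theorem stp_8 : ∀ e : V5, stp 8 e = true := by decide +kernel
theorem stp_9 : ∀ e : V5, stp 9 e = true := by decide +kernel

theorem stp_all : ∀ r < 10, ∀ e : V5, stp r e = true := by
  intro r hr
  interval_cases r
  exacts [stp_0, stp_1, stp_2, stp_3, stp_4, stp_5, stp_6, stp_7, stp_8, stp_9]

/-- representatives without element of order 3 in their coset -/
theorem nok_10 : ∀ e : V5, okr 10 e = false := by decide +kernel
theorem nok_11 : ∀ e : V5, okr 11 e = false := by decide +kernel
theorem nok_12 : ∀ e : V5, okr 12 e = false := by decide +kernel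
theorem nok_13 : ∀ e : V5, okr 13 e = false := by decide +kernel
theorem nok_14 : ∀ e : V5, okr 14 e = false := by decide +kernel
theorem nok_15 : ∀ e : V5, okr 15 e = false := by decide +kernel
theorem nok_16 : ∀ e : V5, okr 16 e = false := by decide +kernel
theorem nok_17 : ∀ e : V5, okr 17 e = false := by decide +kernel
theorem nok_18 : ∀ e : V5, okr 18 e = false := by decide +kernel
theorem nok_19 : ∀ e : V5, okr 19 e = false := by decide +kernel

theorem nok_all : ∀ r, 10 ≤ r → r < 20 → ∀ e : V5, okr r e = false := by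
  intro r h1 h2
  interval_cases r
  exacts [nok_10, nok_11, nok_12, nok_13, nok_14, nok_15, nok_16, nok_17, nok_18, nok_19]

/-- the action of a representative has order 3 -/
theorem R_three : ∀ r < 20, c3 (rp r) = true := by decide +kernel

theorem stA_0 : ∀ a b c d : ZMod 3, stA (a, b, c, d, 0) = true := by decide +kernel
theorem stA_1 : ∀ a b c d : ZMod 3, stA (a, b, c, d, 1) = true := by decide +kernel
theorem stA_2 : ∀ a b c d : ZMod 3, stA (a, b, c, d, 2) = true := by decide +kernel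

theorem stA_all : ∀ q : V5, stA q = true := by
  rintro ⟨a, b, c, d, f⟩
  have : f = 0 ∨ f = 1 ∨ f = 2 := by revert f; decide
  rcases this with rfl | rfl | rfl
  · exact stA_0 a b c d
  · exact stA_1 a b c d
  · exact stA_2 a b c d

theorem Aw_add (q x y : V5) : Aw q (x + y) = Aw q x + Aw q y := Aq_add _ _ _ _ _ _ _

theorem R_add (r : ℕ) (x y : V5) : R r (x + y) = R r x + R r y := Aw_add _ _ _

/-- additive maps agreeing on the basis -/
theorem ext_bs {f g : V5 → V5} (hf : ∀ x y, f (x + y) = f x + f y) (hg : ∀ x y, g (x + y) = g x + g y)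
    (h : ∀ i ∈ [0, 1, 2, 3, 4], f (bs i) = g (bs i)) : ∀ e, f e = g e := by
  refine add_ext hf hg ?_
  intro e he
  simp only [List.mem_cons, List.not_mem_nil, or_false] at he
  rcases he with rfl | rfl | rfl | rfl | rfl
  · exact h 0 (by simp)
  · exact h 1 (by simp)
  · exact h 2 (by simp)
  · exact h 3 (by simp)
  · exact h 4 (by simp)

theorem Aw_three {q : V5} (h : c3 q = true) (e : V5) : Aw q (Aw q (Aw q e)) = e := by
  revert e
  refine ext_bs (fun x y => by rw [Aw_add, Aw_add, Aw_add]) (fun x y => rfl) ?_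
  intro i hi
  unfold c3 at h
  rw [List.all_eq_true] at h
  exact of_decide_eq_true (h i hi)

theorem it_add {f : V5 → V5} (hf : ∀ x y, f (x + y) = f x + f y) (k : ℕ) (x y : V5) :
    it k f (x + y) = it k f x + it k f y := by
  unfold it
  split <;> simp only [hf]

theorem cjk_spec {q s : V5} {r k : ℕ} (h : cjk q s r k = true) (e : V5) :
    Aw s (it k (Aw q) e) = R r (Aw s e) := by
  revert e
  refine ext_bs (fun x y => by rw [it_add (Aw_add q), Aw_add]) (fun x y => by rw [Aw_add, R_add]) ?_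
  intro i hi
  unfold cjk at h
  rw [List.all_eq_true] at h
  exact of_decide_eq_true (h i hi)

section main

variable {G : Type*} [Group G] (D : Dat G)

/-- the element with given coordinates -/
def tw (q : V5) : G := D.w4 q.1 q.2.1 q.2.2.1 q.2.2.2.1 * D.x0 ^ q.2.2.2.2.val

/-- the representatives -/
def tt (r : ℕ) : G := tw D (rp r)

/-- the generators -/
def gs : ℕ → G
  | 0 => D.v1
  | 1 => D.v2
  | 2 => D.r1
  | 3 => D.r2
  | _ => D.x0

/-- the facts which are checked on matrices -/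
structure Fac : Prop where
  kap : ∀ r < 20, tt D r ^ 3 = D.uu (kp r)
  del : ∀ r j, dok r j = true → tt D r * gs D j = gs D j * (D.uu (dl r j) * tt D r)
  root : ∀ r < 10, ∀ e ∈ rts r, Good (D.uu e * tt D r)

variable {D}

theorem act_tw (q : V5) : D.Act (tw D q) (Aw q) := by
  have := act_w5 (D := D) 0 q.1 q.2.1 q.2.2.1 q.2.2.2.1 q.2.2.2.2
  rw [uu_zero, one_mul] at this
  exact this

theorem act_gs (j : ℕ) : D.Act (gs D j) (sA j) := by
  rcases j with _ | _ | _ | _ | j
  · exact act_v1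
  · exact act_v2
  · exact act_r1
  · exact act_r2
  · exact act_x0

theorem tw_mem (q : V5) : tw D q ∈ D.Sg := by
  have := (D.mem_Sg (x := tw D q)).2 ⟨0, q.1, q.2.1, q.2.2.1, q.2.2.2.1, q.2.2.2.2, by rw [uu_zero, one_mul]; rfl⟩
  exact this

theorem tt_zero : tt D 0 = 1 := by
  show D.v1 ^ (0 : ZMod 3).val * D.v2 ^ (0 : ZMod 3).val * D.r1 ^ (0 : ZMod 3).val * D.r2 ^ (0 : ZMod 3).val *
    D.x0 ^ (0 : ZMod 3).val = 1
  simp

/-- the cube of an element of a coset -/
theorem cube_eq {t : G} {F : V5 → V5} (ht : D.Act t F) (hF : ∀ e, F (F (F e)) = e) (e : V5) :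
    (D.uu e * t) ^ 3 = D.uu (e + F e + F (F e)) * t ^ 3 := by
  have h1 : ∀ x, t * D.uu (F x) = D.uu x * t := by
    intro x
    rw [← ht x]
    group
  have h2 : t * D.uu e = D.uu (F (F e)) * t := by
    have := h1 (F (F e))
    rwa [hF] at this
  have h3 : t * D.uu (F (F e)) = D.uu (F e) * t := h1 (F e)
  calc (D.uu e * t) ^ 3 = D.uu e * (t * D.uu e) * (t * D.uu e) * t := by rw [pow_three]; group
    _ = D.uu e * (D.uu (F (F e)) * t) * (D.uu (F (F e)) * t) * t := by rw [h2]
    _ = D.uu e * D.uu (F (F e)) * (t * D.uu (F (F e))) * t * t := by group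
    _ = D.uu e * D.uu (F (F e)) * (D.uu (F e) * t) * t * t := by rw [h3]
    _ = D.uu e * D.uu (F (F e)) * D.uu (F e) * t ^ 3 := by rw [pow_three]; group
    _ = D.uu (e + F e + F (F e)) * t ^ 3 := by
      rw [← uu_add, ← uu_add]
      congr 2
      abel

theorem okr_of (hF : Fac D) (h1 : D.u1 ≠ 1) {r : ℕ} (hr : r < 20) {e : V5} (h : (D.uu e * tt D r) ^ 3 = 1) :
    okr r e = true := by
  have hact : D.Act (tt D r) (R r) := act_tw (rp r)
  rw [cube_eq hact (Aw_three (R_three r hr)) e] at h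
  rw [hF.kap r hr, ← uu_add, ← uu_zero (D := D)] at h
  exact decide_eq_true (uu_injective h1 h)

/-- a move is a conjugation -/
theorem good_mv (hF : Fac D) {r i : ℕ} (hr : r < 20) {e : V5} (hm : mok r i = true)
    (h : Good (D.uu (mv r i e) * tt D r)) : Good (D.uu e * tt D r) := by
  unfold mv at h
  unfold mok at hm
  split_ifs at h hm with h1 h2
  · apply Good.of_conj (s := (D.uu (bs i))⁻¹)
    have e1 : tt D r * D.uu (-bs i) = D.uu (- R r (R r (bs i))) * tt D r := by
      have hact : D.Act (tt D r) (R r) := act_tw (rp r)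
      have e2 := hact (-(R r (R r (bs i))))
      have e3 : R r (-(R r (R r (bs i)))) = - bs i := by
        have e4 : R r (-(R r (R r (bs i))) + R r (R r (bs i))) = R r (-(R r (R r (bs i)))) + bs i := by
          rw [R_add]
          congr 1
          exact Aw_three (R_three r hr) _
        rw [neg_add_cancel] at e4
        have e5 : R r 0 = 0 := by
          have := R_add r 0 0
          rw [add_zero] at this
          exact left_eq_add.1 this
        rw [e5] at e4
        exact (neg_eq_of_add_eq_zero_left e4.symm).symm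
      rw [e3] at e2
      rw [← e2]
      group
    have e6 : ((D.uu (bs i))⁻¹)⁻¹ * (D.uu e * tt D r) * (D.uu (bs i))⁻¹ =
        D.uu (e + bs i - R r (R r (bs i))) * tt D r := by
      rw [inv_inv, ← uu_neg, mul_assoc, mul_assoc, e1, ← mul_assoc, ← mul_assoc, ← uu_add, ← uu_add]
      congr 2
      abel
    rw [e6]
    exact h
  · apply Good.of_conj (s := gs D (i - 5))
    have e1 := hF.del r (i - 5) hm
    have e2 := act_gs (D := D) (i - 5) e
    have e3 : (gs D (i - 5))⁻¹ * (D.uu e * tt D r) * gs D (i - 5) =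
        D.uu (sA (i - 5) e + dl r (i - 5)) * tt D r := by
      calc (gs D (i - 5))⁻¹ * (D.uu e * tt D r) * gs D (i - 5) =
          (gs D (i - 5))⁻¹ * D.uu e * (tt D r * gs D (i - 5)) := by group
        _ = ((gs D (i - 5))⁻¹ * D.uu e * gs D (i - 5)) * (D.uu (dl r (i - 5)) * tt D r) := by rw [e1]; group
        _ = _ := by rw [e2, ← mul_assoc, ← uu_add]
    rw [e3]
    exact h
  · have h0 : r = 0 := of_decide_eq_true hm
    subst h0
    rw [tt_zero, mul_one] at h ⊢
    rw [uu_neg] at h
    exact h.of_inv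

/-- the elements of order 3 in the cosets of the representatives -/
theorem good_of_okr (hF : Fac D) {r : ℕ} (hr : r < 10) : ∀ (n : ℕ) (e : V5), dg (tb r) (cd e) / 16 = n →
    okr r e = true → Good (D.uu e * tt D r) := by
  intro n
  induction n using Nat.strong_induction_on with
  | _ n ih =>
    intro e hn he
    have h := stp_all r hr e
    unfold stp at h
    rw [he] at h
    simp only [Bool.not_true, Bool.false_or, Bool.or_eq_true, Bool.and_eq_true, decide_eq_true_eq] at h
    rcases h with ⟨-, h⟩ | ⟨⟨h1, h2⟩, h3⟩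
    · exact hF.root r hr e h
    · exact good_mv hF (by omega) h2 (ih _ (by rw [← hn]; exact h3) _ rfl h1)

theorem good_of_mem (hF : Fac D) (h1 : D.u1 ≠ 1) {x : G} (hx : x ∈ D.Sg) (h3 : x ^ 3 = 1) : Good x := by
  obtain ⟨e, a, b, c, d, f, hxe⟩ := (D.mem_Sg).1 hx
  set q : V5 := (a, b, c, d, f) with hq
  have hact : D.Act x (Aw q) := by rw [hxe]; exact act_w5 e a b c d f
  have hc3 : c3 q = true := by
    unfold c3
    rw [List.all_eq_true]
    intro i _
    apply decide_eq_true
    have h5 : D.Act (x * x * x) (fun e => Aw q (Aw q (Aw q e))) := (hact.mul hact).mul hact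
    rw [show x * x * x = x ^ 3 by rw [pow_three, mul_assoc], h3] at h5
    exact act_unique h1 h5 act_one (bs i)
  have hst := stA_all q
  unfold stA at hst
  rw [hc3] at hst
  simp only [Bool.not_true, Bool.false_or, Bool.and_eq_true, decide_eq_true_eq] at hst
  obtain ⟨hr, hcj⟩ := hst
  set r := dg tR (cd q) / 2 with hrd
  set k := dg tR (cd q) % 2 with hkd
  set s : G := tw D (dv (dg tS (cd q))) with hs
  have hact_s : D.Act s (Aw (dv (dg tS (cd q)))) := act_tw _
  -- the power
  have hk : ∃ y : G, y ∈ D.Sg ∧ D.Act y (it k (Aw q)) ∧ y ^ 3 = 1 ∧ (Good y → Good x) := by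
    unfold it
    split
    · exact ⟨x, hx, hact, h3, fun h => h⟩
    · refine ⟨x * x, D.Sg.mul_mem hx hx, hact.mul hact, ?_, fun h => Good.of_sq h3 (by rwa [pow_two])⟩
      rw [← pow_two, ← pow_mul, mul_comm, pow_mul, h3, one_pow]
  obtain ⟨y, hy, hyact, hy3, hyx⟩ := hk
  apply hyx
  apply Good.of_conj (s := s)
  have hz : s⁻¹ * y * s ∈ D.Sg := D.Sg.mul_mem (D.Sg.mul_mem (D.Sg.inv_mem (tw_mem _)) hy) (tw_mem _)
  have hzact : D.Act (s⁻¹ * y * s) (R r) := by
    intro e
    have e1 : s * D.uu e * s⁻¹ ∈ D.U := by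
      have h5 := D.Sg.inv_mem (tw_mem (D := D) (dv (dg tS (cd q))))
      obtain ⟨a', b', c', d', f', h6⟩ := act_of_mem_Sg h5
      have h7 := h6 e
      rw [inv_inv] at h7
      rw [hs, h7]
      exact D.uu_mem _
    obtain ⟨e', he'⟩ := (D.mem_U).1 e1
    have e2 : D.uu (Aw (dv (dg tS (cd q))) e') = D.uu e := by
      rw [← hact_s, ← he']
      group
    have e3 : Aw (dv (dg tS (cd q))) e' = e := uu_injective h1 e2
    calc (s⁻¹ * y * s)⁻¹ * D.uu e * (s⁻¹ * y * s) = s⁻¹ * (y⁻¹ * (s * D.uu e * s⁻¹) * y) * s := by group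
      _ = s⁻¹ * (y⁻¹ * D.uu e' * y) * s := by rw [he']
      _ = s⁻¹ * D.uu (it k (Aw q) e') * s := by rw [hyact]
      _ = D.uu (Aw (dv (dg tS (cd q))) (it k (Aw q) e')) := by rw [hact_s]
      _ = D.uu (R r e) := by rw [cjk_spec hcj, e3]
  have hz3 : (s⁻¹ * y * s) ^ 3 = 1 := by
    have : (s⁻¹ * y * s) ^ 3 = s⁻¹ * y ^ 3 * s := by
      simp only [pow_three]; group
    rw [this, hy3]; group
  obtain ⟨e', a', b', c', d', f', hze⟩ := (D.mem_Sg).1 hz
  have hq' : ∀ e, Aq a' b' c' d' f' e = Aq (rp r).1 (rp r).2.1 (rp r).2.2.1 (rp r).2.2.2.1 (rp r).2.2.2.2 e := by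
    intro e
    have h5 : D.Act (s⁻¹ * y * s) (Aq a' b' c' d' f') := by rw [hze]; exact act_w5 _ _ _ _ _ _
    exact act_unique h1 h5 hzact e
  obtain ⟨ha, hb, hc, hd, hf⟩ := Aq_inj hq'
  have hzt : s⁻¹ * y * s = D.uu e' * tt D r := by
    rw [hze, ha, hb, hc, hd, hf]
    unfold tt tw
    rw [mul_assoc]
  rw [hzt] at hz3 ⊢
  have hok := okr_of hF h1 hr hz3
  by_cases h10 : r < 10
  · exact good_of_okr hF h10 _ e' rfl hok
  · exact absurd hok (by rw [nok_all r (by omega) hr e']; simp)

end main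

end Cfsg.Agent.H894.ThThree
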