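import Cfsg.Agent.H894.ThThree.CkP
import Cfsg.Agent.H894.ThThree.CkK
import Cfsg.Agent.H894.ThThree.CkD
import Cfsg.Agent.H894.ThThree.CkR
import Cfsg.Agent.H894.ThThree.Orb
import Cfsg.Agent.H777.Th3.ThEl
import Mathlib.GroupTheory.Sylow

/-!
# Every element of order 3 of the Thompson group commutes with an involution (helper894)

`exists_inv_of_three`.
-/

set_option autoImplicit false

namespace Cfsg.Agent.H894.ThThree

open Cfsg.Agent.Th Cfsg.Agent.Th.Words248 Cfsg.Agent.Th.Gen248 Cfsg.Agent.H777.Th3 Cfsg.Agent.H777.Th3.Dat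
  Cfsg.Agent.H894.ThLine

theorem rep_evN (w : Wd) : Rep (evN false w) (el w) :=
  ⟨(evN_spec w).1.1, by rw [rho_el]; exact (evN_spec w).1.2⟩

theorem rep_evI (w : Wd) : Rep (evN true w) (el w)⁻¹ :=
  ⟨(evN_spec w).2.1, by rw [map_inv, rho_el]; exact (evN_spec w).2.2⟩

/-- the elements of the table -/
def PG (q : ℕ) : TG := if q < 13 then el (pwd q) else (el (pwd (q - 13)))⁻¹

theorem rep_P {q : ℕ} (hq : q < 13) : Rep (PM q) (el (pwd q)) := by
  rcases Nat.lt_or_ge q 12 with h | h
  · exact (rep_evN _).congr (ckP q (Nat.zero_le _) h)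
  · obtain rfl : q = 12 := by omega
    show Rep (PM 12) (el (.mul wc0 wc1))
    rw [el_mul]
    exact (((rep_evN wc0).congr ckC0).mul ((rep_evN wc1).congr ckC1)).congr ckG

theorem rep_I {q : ℕ} (hq : q < 13) : Rep (PM (q + 13)) (el (pwd q))⁻¹ := by
  rcases Nat.lt_or_ge q 12 with h | h
  · exact (rep_evI _).congr (ckI q (Nat.zero_le _) h)
  · obtain rfl : q = 12 := by omega
    show Rep (PM 25) (el (.mul wc0 wc1))⁻¹
    rw [el_mul, mul_inv_rev]
    exact (((rep_evI wc1).congr ckC2).mul ((rep_evI wc0).congr ckC3)).congr ckGi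

theorem rep_PG : ∀ q < 26, Rep (PM q) (PG q) := by
  intro q hq
  unfold PG
  split_ifs with h
  · exact rep_P h
  · have h1 := rep_I (q := q - 13) (by omega)
    rwa [show q - 13 + 13 = q by omega] at h1

theorem wpg_rep_append (n q : ℕ) (l : List ℕ) : wpg PG (List.replicate n q ++ l) = PG q ^ n * wpg PG l := by
  induction n with
  | zero => simp
  | succ n ih =>
    rw [List.replicate_succ, List.cons_append]
    show PG q * wpg PG (List.replicate n q ++ l) = _
    rw [ih, pow_succ', mul_assoc]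

theorem wpg_append (l m : List ℕ) : wpg PG (l ++ m) = wpg PG l * wpg PG m := by
  induction l with
  | nil => show wpg PG m = 1 * wpg PG m; rw [one_mul]
  | cons q l ih =>
    rw [List.cons_append]
    show PG q * wpg PG (l ++ m) = PG q * wpg PG l * wpg PG m
    rw [ih, mul_assoc]

theorem wpg_nf (e q : V5) : wpg PG (nf e q) = thDat.uu e * tw thDat q := by
  have h0 : wpg PG (List.replicate q.2.2.2.2.val 9) = PG 9 ^ q.2.2.2.2.val := by
    have := wpg_rep_append q.2.2.2.2.val 9 []
    rw [List.append_nil] at this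
    rw [this]
    show _ * 1 = _
    rw [mul_one]
  unfold nf
  rw [wpg_rep_append, wpg_rep_append, wpg_rep_append, wpg_rep_append, wpg_rep_append, wpg_rep_append, wpg_rep_append,
    wpg_rep_append, wpg_rep_append, h0]
  show thDat.u1 ^ _ * (thDat.u2 ^ _ * (thDat.u3 ^ _ * (thDat.u4 ^ _ * (thDat.u5 ^ _ * (thDat.v1 ^ _ * (thDat.v2 ^ _ *
    (thDat.r1 ^ _ * (thDat.r2 ^ _ * thDat.x0 ^ _)))))))) = _
  unfold uu tw w4
  simp only [mul_assoc]

theorem nf_lt {e q : V5} : ∀ k ∈ nf e q, k < 26 := by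
  intro k hk
  unfold nf at hk
  simp only [List.mem_append, List.mem_replicate] at hk
  omega

theorem rep_wpg (l : List ℕ) (hl : ∀ k ∈ l, k < 26) : Rep (wpr PM idm l) (wpg PG l) := by
  have := rep_wpr rep_PG Rep.one l hl
  rwa [one_mul] at this

theorem rep_nf (e q : V5) : Rep (wpr PM idm (nf e q)) (thDat.uu e * tw thDat q) := by
  rw [← wpg_nf]
  exact rep_wpg _ nf_lt

theorem PG_gs (j : ℕ) (hj : j < 5) : PG (5 + j) = gs thDat j := by
  interval_cases j <;> rfl

theorem dok_lt {r j : ℕ} (h : dok r j = true) : j < 5 := by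
  unfold dok at h
  split at h
  all_goals first | omega | exact absurd h (by simp)

theorem fac : Fac thDat where
  kap := by
    intro r hr
    have h1 := ckK r (Nat.zero_le _) hr
    unfold kck at h1
    have h2 := (rep_wpg (nf 0 (rp r) ++ (nf 0 (rp r) ++ nf 0 (rp r))) (by
      intro k hk
      simp only [List.mem_append] at hk
      rcases hk with hk | hk | hk <;> exact nf_lt k hk)).eq (rep_nf (kp r) 0) h1
    rw [wpg_append, wpg_append, wpg_nf, uu_zero, one_mul] at h2
    rw [pow_three]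
    have h3 : tw thDat 0 = 1 := tt_zero
    rw [h3, mul_one] at h2
    exact h2
  del := by
    intro r j h
    have hj := dok_lt h
    have h1 := ckD r j h
    unfold dck at h1
    have h2 := (rep_wpg (nf 0 (rp r) ++ [5 + j]) (by
      intro k hk
      simp only [List.mem_append, List.mem_singleton] at hk
      rcases hk with hk | hk
      · exact nf_lt k hk
      · omega)).eq (rep_wpg ((5 + j) :: nf (dl r j) (rp r)) (by
      intro k hk
      simp only [List.mem_cons] at hk
      rcases hk with hk | hk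
      · omega
      · exact nf_lt k hk)) h1
    have h3 : wpg PG [5 + j] = gs thDat j := by
      show PG (5 + j) * 1 = _
      rw [mul_one, PG_gs j hj]
    have h4 : wpg PG ((5 + j) :: nf (dl r j) (rp r)) = gs thDat j * (thDat.uu (dl r j) * tt thDat r) := by
      show PG (5 + j) * wpg PG (nf (dl r j) (rp r)) = _
      rw [PG_gs j hj, wpg_nf]
      rfl
    rw [wpg_append, wpg_nf, h3, h4, uu_zero, one_mul] at h2
    exact h2
  root := by
    intro r hr e he
    obtain ⟨h, J, h', hh, hh', hck⟩ := ckR r hr e he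
    unfold ick at hck
    rw [force_eq, force_eq] at hck
    simp only [Bool.and_eq_true, Bool.not_eq_true'] at hck
    obtain ⟨⟨h1, h2⟩, h3⟩ := hck
    have hi : Rep (wpr PM (evl (wpr PM idm h) J) h') (wpg PG h * wv J * wpg PG h') :=
      rep_wpr rep_PG (rep_evl (rep_wpg h hh) J) h' hh'
    have hy := rep_nf e (rp r)
    refine ⟨wpg PG h * wv J * wpg PG h', ?_, ?_, ?_⟩
    · exact hi.ne Rep.one h3
    · exact (hi.mul hi).eq Rep.one h2
    · exact (hy.mul hi).eq (hi.mul hy) h1

instance finite_Th : Finite Cfsg.Spor.Th := Cfsg.Agent.Th.Final.finite_Th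

/-- Every element of order 3 of the Thompson group commutes with an involution. -/
theorem exists_inv_of_three {x : Cfsg.Spor.Th} (h3 : x ^ 3 = 1) :
    ∃ i : Cfsg.Spor.Th, i ≠ 1 ∧ i * i = 1 ∧ x * i = i * x := by
  have hp : Fact (Nat.Prime 3) := ⟨Nat.prime_three⟩
  have hidx : ¬ 3 ∣ thDat.Sg.index := by
    have h1 := thDat.Sg.card_mul_index
    rw [card_Sg th_u1_ne, Cfsg.Agent.Th.Final.card_Th] at h1
    intro h
    obtain ⟨k, hk⟩ := h
    rw [hk] at h1
    omega
  let P : Sylow 3 Cfsg.Spor.Th := (isPGroup_Sg th_u1_ne).toSylow hidx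
  have hx : IsPGroup 3 (Subgroup.zpowers x) := by
    intro y
    obtain ⟨k, hk⟩ := Subgroup.mem_zpowers_iff.1 y.2
    refine ⟨1, ?_⟩
    apply Subtype.ext
    show (y : Cfsg.Spor.Th) ^ (3 ^ 1) = 1
    rw [← hk, pow_one, ← zpow_natCast, ← zpow_mul, mul_comm, zpow_mul, zpow_natCast, h3, one_zpow]
  obtain ⟨Q, hQ⟩ := hx.exists_le_sylow
  obtain ⟨g, hg⟩ := MulAction.exists_smul_eq Cfsg.Spor.Th P Q
  have hxQ : x ∈ (Q : Subgroup Cfsg.Spor.Th) := hQ (Subgroup.mem_zpowers x)
  rw [← hg] at hxQ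
  have hxg : g⁻¹ * x * g ∈ thDat.Sg := by
    obtain ⟨y, hy, hyx⟩ := hxQ
    have : g⁻¹ * x * g = y := by
      rw [← hyx]
      show g⁻¹ * (g * y * g⁻¹) * g = y
      group
    rw [this]
    exact hy
  have h3g : (g⁻¹ * x * g) ^ 3 = 1 := by
    have : (g⁻¹ * x * g) ^ 3 = g⁻¹ * x ^ 3 * g := by
      simp only [pow_three]; group
    rw [this, h3]; group
  exact Good.of_conj (good_of_mem fac th_u1_ne hxg h3g)

end Cfsg.Agent.H894.ThThree
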