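import Cfsg.Agent.H894.ThThree.Def

/-!
# The generators (helper894)
-/

set_option autoImplicit false
set_option maxRecDepth 100000
set_option maxHeartbeats 4000000
set_option Elab.async false

namespace Cfsg.Agent.H894.ThThree

open Cfsg.Agent.Th Cfsg.Agent.Th.Words248 Cfsg.Agent.Th.Gen248 Cfsg.Agent.H777.Th3 Cfsg.Agent.H894.ThLine

theorem ckP_0 : Nat.beq (evN false (pwd 0)) (PM 0) = true := by decide +kernel

theorem ckP_1 : Nat.beq (evN false (pwd 1)) (PM 1) = true := by decide +kernel

theorem ckP_2 : Nat.beq (evN false (pwd 2)) (PM 2) = true := by decide +kernel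

theorem ckP_3 : Nat.beq (evN false (pwd 3)) (PM 3) = true := by decide +kernel

theorem ckP_4 : Nat.beq (evN false (pwd 4)) (PM 4) = true := by decide +kernel

theorem ckP_5 : Nat.beq (evN false (pwd 5)) (PM 5) = true := by decide +kernel

theorem ckP_6 : Nat.beq (evN false (pwd 6)) (PM 6) = true := by decide +kernel

theorem ckP_7 : Nat.beq (evN false (pwd 7)) (PM 7) = true := by decide +kernel

theorem ckP_8 : Nat.beq (evN false (pwd 8)) (PM 8) = true := by decide +kernel

theorem ckP_9 : Nat.beq (evN false (pwd 9)) (PM 9) = true := by decide +kernel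

theorem ckP_10 : Nat.beq (evN false (pwd 10)) (PM 10) = true := by decide +kernel

theorem ckP_11 : Nat.beq (evN false (pwd 11)) (PM 11) = true := by decide +kernel

theorem ckP : ∀ q, 0 ≤ q → q < 12 → Nat.beq (evN false (pwd q)) (PM q) = true := by
  intro q h1 h2
  interval_cases q
  · exact ckP_0
  · exact ckP_1
  · exact ckP_2
  · exact ckP_3
  · exact ckP_4
  · exact ckP_5
  · exact ckP_6
  · exact ckP_7
  · exact ckP_8
  · exact ckP_9
  · exact ckP_10
  · exact ckP_11

theorem ckI_0 : Nat.beq (evN true (pwd 0)) (PM (0 + 13)) = true := by decide +kernel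

theorem ckI_1 : Nat.beq (evN true (pwd 1)) (PM (1 + 13)) = true := by decide +kernel

theorem ckI_2 : Nat.beq (evN true (pwd 2)) (PM (2 + 13)) = true := by decide +kernel

theorem ckI_3 : Nat.beq (evN true (pwd 3)) (PM (3 + 13)) = true := by decide +kernel

theorem ckI_4 : Nat.beq (evN true (pwd 4)) (PM (4 + 13)) = true := by decide +kernel

theorem ckI_5 : Nat.beq (evN true (pwd 5)) (PM (5 + 13)) = true := by decide +kernel

theorem ckI_6 : Nat.beq (evN true (pwd 6)) (PM (6 + 13)) = true := by decide +kernel

theorem ckI_7 : Nat.beq (evN true (pwd 7)) (PM (7 + 13)) = true := by decide +kernel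

theorem ckI_8 : Nat.beq (evN true (pwd 8)) (PM (8 + 13)) = true := by decide +kernel

theorem ckI_9 : Nat.beq (evN true (pwd 9)) (PM (9 + 13)) = true := by decide +kernel

theorem ckI_10 : Nat.beq (evN true (pwd 10)) (PM (10 + 13)) = true := by decide +kernel

theorem ckI_11 : Nat.beq (evN true (pwd 11)) (PM (11 + 13)) = true := by decide +kernel

theorem ckI : ∀ q, 0 ≤ q → q < 12 → Nat.beq (evN true (pwd q)) (PM (q + 13)) = true := by
  intro q h1 h2
  interval_cases q
  · exact ckI_0
  · exact ckI_1
  · exact ckI_2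
  · exact ckI_3
  · exact ckI_4
  · exact ckI_5
  · exact ckI_6
  · exact ckI_7
  · exact ckI_8
  · exact ckI_9
  · exact ckI_10
  · exact ckI_11

theorem ckC0 : Nat.beq (evN false wc0) (PM 26) = true := by decide +kernel

theorem ckC1 : Nat.beq (evN false wc1) (PM 27) = true := by decide +kernel

theorem ckC2 : Nat.beq (evN true wc1) (PM 28) = true := by decide +kernel

theorem ckC3 : Nat.beq (evN true wc0) (PM 29) = true := by decide +kernel

theorem ckG : Nat.beq (mul (PM 26) (PM 27)) (PM 12) = true := by decide +kernel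

theorem ckGi : Nat.beq (mul (PM 28) (PM 29)) (PM 25) = true := by decide +kernel

end Cfsg.Agent.H894.ThThree
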