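import Cfsg.Agent.H894.ThThree.Tab
import Cfsg.Agent.H894.ThThree.Dat
import Cfsg.Agent.H894.ThLine.Rep
import Cfsg.Agent.H777.Th3.Wds

/-!
# The checks for elements of order 3 (helper894)
-/

set_option autoImplicit false
set_option maxRecDepth 100000
set_option maxHeartbeats 4000000
set_option Elab.async false

namespace Cfsg.Agent.H894.ThThree

open Cfsg.Agent.Th Cfsg.Agent.Th.Words248 Cfsg.Agent.Th.Gen248 Cfsg.Agent.H777.Th3 Cfsg.Agent.H894.ThLine

/-- first factor of the last generator -/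
def wc0 : Wd := wl [.c, .d, .b, .u, .b, .U, .b, .d, .c, .d, .c, .d, .b, .u, .a, .b, .S, .u, .d, .S, .S, .e, .T, .u, .T, .u, .e, .d, .T, .u, .T, .u, .d, .e, .S]

/-- second factor of the last generator -/
def wc1 : Wd := wl [.U, .d, .T, .u, .T, .u, .d, .u, .s, .s, .U, .d, .T, .u, .T, .u, .d, .u, .S, .b, .a, .U, .b, .d, .c, .d, .c, .d, .b, .u, .b, .U, .b, .d, .c]

/-- the words of the generators -/
def pwd : ℕ → Wd
  | 0 => w_u1
  | 1 => w_u2
  | 2 => w_u3
  | 3 => w_u4
  | 4 => w_u5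
  | 5 => w_v1
  | 6 => w_v2
  | 7 => w_r1
  | 8 => w_r2
  | 9 => w_x0
  | 10 => w_m1
  | 11 => w_m2
  | _ => .mul wc0 wc1

/-- exponents to a list -/
def nf (e q : V5) : List ℕ :=
  List.replicate e.1.val 0 ++ (List.replicate e.2.1.val 1 ++ (List.replicate e.2.2.1.val 2 ++
    (List.replicate e.2.2.2.1.val 3 ++ (List.replicate e.2.2.2.2.val 4 ++ (List.replicate q.1.val 5 ++
      (List.replicate q.2.1.val 6 ++ (List.replicate q.2.2.1.val 7 ++ (List.replicate q.2.2.2.1.val 8 ++
        List.replicate q.2.2.2.2.val 9))))))))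

/-- the check for the cube of a representative -/
noncomputable def kck (r : ℕ) : Bool :=
  Nat.beq (wpr PM idm (nf 0 (rp r) ++ (nf 0 (rp r) ++ nf 0 (rp r)))) (wpr PM idm (nf (kp r) 0))

/-- the check for a commutator -/
noncomputable def dck (r j : ℕ) : Bool :=
  Nat.beq (wpr PM idm (nf 0 (rp r) ++ [5 + j])) (wpr PM idm ((5 + j) :: nf (dl r j) (rp r)))

/-- the check for an involution -/
noncomputable def ick (e q : V5) (h : List ℕ) (J : List Lt) (h' : List ℕ) : Bool :=
  force (wpr PM (evl (wpr PM idm h) J) h') fun i => force (wpr PM idm (nf e q)) fun y =>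
    (Nat.beq (mul y i) (mul i y)) && (Nat.beq (mul i i) idm) && !(Nat.beq i idm)

end Cfsg.Agent.H894.ThThree
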