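import Cfsg.Agent.H894.ThThree.Main
import Cfsg.Agent.H533.Wf.Inner
import Cfsg.Agent.KFacts.Th.Main
import Cfsg.Agent.MonsterX.ThOneClass
import Mathlib.GroupTheory.SpecificGroups.Alternating.Simple

/-!
# The Thompson group in S3826, p = 3 (helper894)

Every element of order 3 has a conjugate in the centralizer `2^(1+8).A9` of the involution `gTh 1`; `arow_Th`.
-/

set_option autoImplicit false

namespace Cfsg.Agent.H894.ThThree

universe u

open Cfsg Cfsg.Agent.Th Cfsg.Agent.Th.Base Cfsg.Agent.Th.Word Cfsg.Agent.Th.KOracle Cfsg.Agent.Th.COracleDef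
  Cfsg.Agent.Th.IndexUpper Cfsg.Agent.Th.CStruct Cfsg.Agent.KFacts.Th.Mask Cfsg.Agent.KFacts.Th.Struct Cfsg.Agent.H533.Wf Cfsg.Agent.H533.T5

/-- Every element of order 3 has a conjugate which commutes with `gTh 1`. -/
theorem exists_conj_comm {x : Cfsg.Spor.Th} (h3 : x ^ 3 = 1) : ∃ g : Cfsg.Spor.Th,
    (g * x * g⁻¹) * gTh 1 = gTh 1 * (g * x * g⁻¹) := by
  obtain ⟨i, h1, h2, h4⟩ := exists_inv_of_three h3
  have hi : orderOf i = 2 := orderOf_eq_prime (by rw [pow_two]; exact h2) h1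
  obtain ⟨g, hg⟩ := isConj_iff.1 (MonsterX.ThOneClass.oneClass i (gTh 1) hi MonsterX.ThOneClass.orderOf_a)
  refine ⟨g, ?_⟩
  rw [← hg]
  calc g * x * g⁻¹ * (g * i * g⁻¹) = g * (x * i) * g⁻¹ := by group
    _ = g * (i * x) * g⁻¹ := by rw [h4]
    _ = g * i * g⁻¹ * (g * x * g⁻¹) := by group

theorem qs_top {Y : Type u} [Group Y] (hs : IsSimpleGroup Y) (hnc : ∃ a b : Y, a * b ≠ b * a) :
    QS (⊤ : Subgroup Y) := by
  refine QS.of_simple ((Subgroup.topEquiv : (⊤ : Subgroup Y) ≃* Y).isSimpleGroup) ?_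
  intro hc
  obtain ⟨a, b, hab⟩ := hnc
  apply hab
  exact congrArg Subtype.val (hc.is_comm.comm (⟨a, Subgroup.mem_top a⟩ : (⊤ : Subgroup Y)) ⟨b, Subgroup.mem_top b⟩)

/-- The field `th` of `SporThree`. -/
theorem arow_Th (K : Type u) [Group K] [Finite K] [IsSimpleGroup K] (h : Spor.IsoTh K) : ARow 3 K := by
  obtain ⟨e⟩ := h
  have hctx := Cfsg.Agent.KFacts.Th.Main.ctx
  obtain ⟨f, hf, hker, -⟩ := hctx.exists_epi
  have hp : Fact (Nat.Prime 3) := ⟨Nat.prime_three⟩
  apply ARow.of_inner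
  · intro a _
    obtain ⟨k, hk⟩ := Cfsg.Agent.KFacts.Th.Main.inner (e.symm.trans (a.trans e))
    refine ⟨e.symm k, ?_⟩
    ext x
    have h1 := congrArg (fun α : MulAut Cfsg.Spor.Th => α (e x)) hk
    simp only [MulEquiv.trans_apply, MulEquiv.symm_apply_apply, MulAut.conj_apply] at h1
    rw [MulAut.conj_apply]
    apply e.injective
    rw [map_mul, map_mul, map_inv, e.apply_symm_apply, ← h1]
  · intro C D hcfg
    let H : Subgroup K := (sub gTh isC).comap e.toMonoidHom
    have hH : H ≠ ⊤ := by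
      intro ht
      have h1 : sub gTh isC = ⊤ := by
        rw [eq_top_iff]
        intro y _
        have : e.symm y ∈ H := by rw [ht]; exact Subgroup.mem_top _
        have h2 : e (e.symm y) ∈ sub gTh isC := this
        rwa [e.apply_symm_apply] at h2
      have h2 := hctx.cardC
      rw [h1, Subgroup.card_top, hctx.card] at h2
      omega
    let φ₀ : H →* sub gTh isC := (e.toMonoidHom.comp H.subtype).codRestrict (sub gTh isC) (fun x => x.2)
    let φ : H →* ULift.{u} (alternatingGroup (Fin 9)) := MulEquiv.ulift.symm.toMonoidHom.comp (f.comp φ₀)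
    have hφ : Function.Surjective φ := by
      rintro ⟨y⟩
      obtain ⟨z, rfl⟩ := hf y
      refine ⟨⟨e.symm z, ?_⟩, ?_⟩
      · show e (e.symm z) ∈ sub gTh isC
        rw [e.apply_symm_apply]; exact z.2
      · have : φ₀ ⟨e.symm z, by show e (e.symm z) ∈ sub gTh isC; rw [e.apply_symm_apply]; exact z.2⟩ = z := by
          apply Subtype.ext
          exact e.apply_symm_apply _
        show ULift.up (f (φ₀ _)) = ULift.up (f z)
        rw [this]
    have hsA : IsSimpleGroup (alternatingGroup (Fin 9)) := alternatingGroup.isSimpleGroup (by simp)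
    have hs : IsSimpleGroup (ULift.{u} (alternatingGroup (Fin 9))) :=
      (MulEquiv.ulift : ULift.{u} (alternatingGroup (Fin 9)) ≃* _).isSimpleGroup
    have hnc : ∃ a b : ULift.{u} (alternatingGroup (Fin 9)), a * b ≠ b * a := by
      by_contra hcon
      have hall : ∀ a b : alternatingGroup (Fin 9), a * b = b * a := by
        intro a b
        by_contra hab
        exact hcon ⟨ULift.up a, ULift.up b, fun h => hab (congrArg ULift.down h)⟩
      have h1 : Equiv.Perm.sign (Equiv.swap (0 : Fin 9) 1 * Equiv.swap 1 2) = 1 := by decide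
      have h2 : Equiv.Perm.sign (Equiv.swap (1 : Fin 9) 2 * Equiv.swap 2 3) = 1 := by decide
      have h3 := congrArg Subtype.val (hall ⟨Equiv.swap (0 : Fin 9) 1 * Equiv.swap 1 2, h1⟩
        ⟨Equiv.swap (1 : Fin 9) 2 * Equiv.swap 2 3, h2⟩)
      have h4 : (Equiv.swap (0 : Fin 9) 1 * Equiv.swap 1 2) * (Equiv.swap (1 : Fin 9) 2 * Equiv.swap 2 3) =
        (Equiv.swap (1 : Fin 9) 2 * Equiv.swap 2 3) * (Equiv.swap (0 : Fin 9) 1 * Equiv.swap 1 2) := h3
      exact absurd h4 (by decide)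
    have key : ∀ x : K, orderOf x = 3 → ∃ g, g * x * g⁻¹ ∈ H := by
      intro x hx
      have h1 : (e x) ^ 3 = 1 := by rw [← map_pow, ← hx, pow_orderOf_eq_one, map_one]
      obtain ⟨g, hg⟩ := exists_conj_comm h1
      refine ⟨e.symm g, ?_⟩
      show e (e.symm g * x * (e.symm g)⁻¹) ∈ sub gTh isC
      rw [map_mul, map_mul, map_inv, e.apply_symm_apply, hctx.mem_C]
      exact hg
    have key2 : ∀ (x : K) (hxH : x ∈ H), orderOf x = 3 →
        φ ⟨x, hxH⟩ ∉ Subgroup.centralizer ((⊤ : Subgroup (ULift.{u} (alternatingGroup (Fin 9)))) : Set _) := by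
      intro x hxH hx hmem
      rw [Subgroup.coe_top, Subgroup.centralizer_univ] at hmem
      have hcb : Subgroup.center (ULift.{u} (alternatingGroup (Fin 9))) = ⊥ := by
        rcases (inferInstance : (Subgroup.center (ULift.{u} (alternatingGroup (Fin 9)))).Normal).eq_bot_or_eq_top with h | h
        · exact h
        · exfalso
          obtain ⟨a, b, hab⟩ := hnc
          have ha : a ∈ Subgroup.center (ULift.{u} (alternatingGroup (Fin 9))) := by rw [h]; exact Subgroup.mem_top a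
          exact hab ((Subgroup.mem_center_iff.1 ha b).symm)
      rw [hcb, Subgroup.mem_bot] at hmem
      have h1 : f (φ₀ ⟨x, hxH⟩) = 1 := congrArg ULift.down hmem
      have h2 : φ₀ ⟨x, hxH⟩ ∈ f.ker := h1
      rw [hker, Subgroup.mem_subgroupOf] at h2
      have h3 : e x ∈ Q0 gTh := h2
      have h4 : orderOf (⟨e x, h3⟩ : Q0 gTh) ∣ 512 := by rw [← hctx.cardQ]; exact orderOf_dvd_natCard _
      rw [Subgroup.orderOf_mk, show orderOf (e x) = orderOf x from orderOf_injective e.toMonoidHom e.injective x, hx] at h4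
      omega
    obtain ⟨c, hc⟩ := hcfg.neC
    obtain ⟨d, hd⟩ := hcfg.neD
    obtain ⟨g, hg⟩ := key c (hcfg.ordC c hc)
    obtain ⟨k, hk⟩ := key d (hcfg.ordD d hd)
    exact hcfg.false_of_hom hH φ hφ (L := ⊤) inferInstance (qs_top hs hnc) (hcfg.conjC g c hc) (hcfg.conjD k d hd) hg hk
      (key2 _ hg (hcfg.ordC _ (hcfg.conjC g c hc))) (key2 _ hk (hcfg.ordD _ (hcfg.conjD k d hd)))

end Cfsg.Agent.H894.ThThree
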